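import Groth.Agent.Unibranch.ValuationBase

/-!
# Generisations of maximal points of fibres over a valuation ring
-/

universe u

set_option autoImplicit false
set_option linter.style.haveILetI false
set_option backward.isDefEq.respectTransparency false

open CategoryTheory AlgebraicGeometry Topology TopologicalSpace

namespace Groth.Agent.ValFibre

open Unibranch

/-- Over a valuation ring, elements generic at a prime stay generic at every smaller prime. -/
theorem genAt_of_le {R B : Type u} [CommRing R] [IsDomain R] [ValuationRing R] [CommRing B] [Algebra R B]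
    {σ : Type u} [Finite σ] (t : σ → B) (n q : Ideal B) [n.IsPrime] [q.IsPrime] (hqn : q ≤ n)
    (h : GenAt (A := R) t n) : GenAt (A := R) t q := by
  classical
  rw [genAt_iff_comap] at h ⊢
  refine le_antisymm (fun P hP => ?_) (Ideal.map_le_iff_le_comap.2 fun a ha => by
    simpa [Ideal.mem_comap, Ideal.under_def] using ha)
  rw [MvPolynomial.mem_map_C_iff]
  by_contra hne
  push Not at hne
  obtain ⟨m₀, hm₀⟩ := hne
  have hne' : P.support.Nonempty := ⟨m₀, MvPolynomial.mem_support_iff.2 fun h0 => hm₀ (by rw [h0]; exact zero_mem _)⟩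
  obtain ⟨m, hm, hdvd⟩ := exists_dvd_forall P.support hne' (fun m ↦ MvPolynomial.coeff m P)
  set c := MvPolynomial.coeff m P with hc
  have hc0 : c ≠ 0 := MvPolynomial.mem_support_iff.mp hm
  have hdvd' : ∀ i, c ∣ P.coeff i := fun i => by
    by_cases hi : i ∈ P.support
    · exact hdvd i hi
    · rw [MvPolynomial.notMem_support_iff.mp hi]; exact dvd_zero c
  have hcq : c ∉ q.under R := fun hcq => by
    obtain ⟨d, hd⟩ := hdvd' m₀
    exact hm₀ (hd ▸ Ideal.mul_mem_right d _ hcq)
  obtain ⟨P', hP'⟩ : MvPolynomial.C c ∣ P := MvPolynomial.C_dvd_iff_dvd_coeff _ _ |>.2 hdvd'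
  have hcoeff : MvPolynomial.coeff m P' = 1 := by
    have := congrArg (MvPolynomial.coeff m) hP'
    rw [MvPolynomial.coeff_C_mul, ← hc] at this
    exact mul_left_cancel₀ hc0 (this.symm.trans (mul_one c).symm)
  have hP'q : MvPolynomial.aeval (R := R) t P' ∈ q := by
    have h1 : MvPolynomial.aeval (R := R) t P ∈ q := hP
    rw [hP', map_mul, MvPolynomial.aeval_C] at h1
    exact ((inferInstance : q.IsPrime).mem_or_mem h1).resolve_left fun h2 ↦ hcq h2
  have h4 : P' ∈ n.comap (MvPolynomial.aeval (R := R) t).toRingHom := hqn hP'q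
  rw [h, MvPolynomial.mem_map_C_iff] at h4
  have h5 := h4 m
  rw [hcoeff] at h5
  exact (inferInstance : (n.under R).IsPrime).ne_top ((Ideal.eq_top_iff_one _).mpr h5)

/-- Over a valuation ring the closure of a generisation has fibres at least as big. -/
theorem hasChain_of_specializes {R : CommRingCat.{u}} [IsDomain R] [ValuationRing R] {X : Scheme.{u}}
    (f : X ⟶ Spec R) [LocallyOfFiniteType f] {ζ z : X} (hζ : ζ ⤳ z) {k : ℕ}
    (hk : HasChain f (closure {z}) (f z) k) : HasChain f (closure {ζ}) (f ζ) k := by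
  let V : (Spec R).Opens := ⊤
  obtain ⟨-, W, -, hW, hzW, -, -⟩ := exists_chart_le f (U := ⊤) (x := z) trivial
  have hV : IsAffineOpen V := isAffineOpen_top (Spec R)
  have hWV : W ≤ f ⁻¹ᵁ V := le_top
  let := (f.appLE V W hWV).hom.toAlgebra
  have : Algebra.FiniteType Γ(Spec R, V) Γ(X, W) := f.finiteType_appLE hV hW hWV
  let e : R ≃+* Γ(Spec R, V) := (Scheme.ΓSpecIso R).symm.commRingCatIsoToRingEquiv
  have : IsDomain Γ(Spec R, V) := e.symm.toMulEquiv.isDomain
  have : ValuationRing Γ(Spec R, V) := valuationRing_of_ringEquiv e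
  have hζW : ζ ∈ W := hζ.mem_open W.2 hzW
  let n := hW.primeIdealOf ⟨z, hzW⟩
  let q := hW.primeIdealOf ⟨ζ, hζW⟩
  have hqn : q.asIdeal ≤ n.asIdeal := (primeIdealOf_le_iff hW hζW hzW).mpr hζ
  obtain ⟨t, ht, -⟩ := exists_genAt (A := Γ(Spec R, V)) n.asIdeal
  have hgen := genAt_of_le t n.asIdeal q.asIdeal hqn ht
  have h1 : k ≤ rdimIn f hW hWV ζ hζW := by
    refine le_trans (hk.le (chainsLE_of_specializes f specializes_rfl hzW
      (chainsLE_rdimIn hV hW hWV hzW))) ?_
    have h2 : Nat.card (ULift.{u} (Fin (rdimIn f hW hWV z hzW))) = rdimIn f hW hWV z hzW := by simp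
    exact h2.symm.le.trans hgen.card_le
  exact ((hasChain_rdimIn hV hW hWV hζW).mono Set.inter_subset_right).anti h1

/-- A maximal point of a noetherian space has a neighbourhood inside its closure. -/
theorem exists_open_subset_closure {T : Type u} [TopologicalSpace T] [NoetherianSpace T] [QuasiSober T] [T0Space T] (v : T)
    (hv : ∀ w, w ⤳ v → w = v) : ∃ U : Set T, IsOpen U ∧ v ∈ U ∧ U ⊆ closure {v} := by
  have hmax : closure {v} ∈ irreducibleComponents T := by
    refine ⟨isIrreducible_singleton.closure, fun C hC hle => ?_⟩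
    obtain ⟨g, hg⟩ := quasiSober_iff _ |>.1 inferInstance hC.closure isClosed_closure
    have hgv : g ⤳ v := hg.specializes (subset_closure (hle (subset_closure rfl)))
    exact subset_closure.trans (by rw [← hg.def, hv g hgv])
  refine ⟨(⋃ C ∈ irreducibleComponents T \ {closure {v}}, C)ᶜ, IsClosed.isOpen_compl (self :=
    (NoetherianSpace.finite_irreducibleComponents.subset Set.sdiff_subset).isClosed_biUnion
      fun C hC => isClosed_of_mem_irreducibleComponents C hC.1), ?_, fun w hw => ?_⟩
  · simp only [Set.mem_compl_iff, Set.mem_iUnion, not_exists]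
    intro C hC hvC
    exact hC.2 (le_antisymm (hmax.2 hC.1.1 (closure_minimal (Set.singleton_subset_iff.2 hvC)
      (isClosed_of_mem_irreducibleComponents C hC.1)))
      (closure_minimal (Set.singleton_subset_iff.2 hvC) (isClosed_of_mem_irreducibleComponents C hC.1)))
  · simp only [Set.mem_compl_iff, Set.mem_iUnion, not_exists] at hw
    by_contra h
    exact hw _ ⟨irreducibleComponent_mem_irreducibleComponents w, fun heq => h (heq ▸ mem_irreducibleComponent)⟩
      mem_irreducibleComponent

/-- A maximal point of a fibre has a neighbourhood meeting the fibre in its closure. -/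
theorem exists_open_fibre {X Y : Scheme.{u}} (f : X ⟶ Y) [LocallyOfFiniteType f] (x : X)
    (hx : ∀ y : X, y ⤳ x → f y = f x → y = x) :
    ∃ U : X.Opens, x ∈ U ∧ ∀ w ∈ U, f w = f x → x ⤳ w := by
  let ι := f.fiberι (f x)
  haveI : LocallyOfFiniteType (f.fiberToSpecResidueField (f x)) := MorphismProperty.pullback_snd _ _ inferInstance
  haveI : IsLocallyNoetherian (f.fiber (f x)) :=
    LocallyOfFiniteType.isLocallyNoetherian (f.fiberToSpecResidueField (f x))
  let v := f.asFiber x
  have hιv : ι v = x := f.fiberι_asFiber x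
  have hfib : ∀ w, f (ι w) = f x := fun w => (f.range_fiberι (f x)).le ⟨w, rfl⟩
  obtain ⟨O, hO, hvO, -⟩ := exists_isAffineOpen_mem_and_subset (X := f.fiber (f x)) (x := v) (U := ⊤) trivial
  haveI : IsNoetherianRing Γ(f.fiber (f x), O) := IsLocallyNoetherian.component_noetherian ⟨O, hO⟩
  haveI : NoetherianSpace ↥O.toScheme := noetherianSpace_of_isAffineOpen O hO
  obtain ⟨U₀, hU₀, hvU₀, hU₀c⟩ := exists_open_subset_closure (T := ↥O.toScheme) ⟨v, hvO⟩ fun w hw => by
    have h1 : w.1 ⤳ v := hw.map continuous_subtype_val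
    have h2 := hx (ι w.1) (((h1.map ι.continuous).trans (specializes_of_eq hιv))) (hfib _)
    exact Subtype.ext (ι.isEmbedding.injective (h2.trans hιv.symm))
  obtain ⟨O', hO', hO'eq⟩ : ∃ O' : Set X, IsOpen O' ∧ ι ⁻¹' O' = Subtype.val '' U₀ :=
    ι.isEmbedding.isInducing.isOpen_iff.1 (O.2.isOpenMap_subtype_val _ hU₀)
  refine ⟨⟨O', hO'⟩, ?_, fun w hw hfw => ?_⟩
  · have : v ∈ ι ⁻¹' O' := hO'eq ▸ ⟨_, hvU₀, rfl⟩
    show x ∈ O'
    rw [← hιv]
    exact this
  · obtain ⟨w', rfl⟩ : w ∈ Set.range ι := by rw [f.range_fiberι]; exact hfw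
    obtain ⟨w'', hw'', rfl⟩ : w' ∈ Subtype.val '' U₀ := hO'eq ▸ hw
    have := ((specializes_iff_mem_closure.2 (hU₀c hw'')).map continuous_subtype_val).map ι.continuous
    rwa [hιv] at this

/-- Over a valuation ring, generisations of maximal points of fibres are maximal in their fibres. -/
theorem eq_of_maximal {R : CommRingCat.{u}} [IsDomain R] [ValuationRing R] {X : Scheme.{u}} (f : X ⟶ Spec R)
    [LocallyOfFiniteType f] {x x' y : X} (hgen : x' ⤳ x) (hx : ∀ y : X, y ⤳ x → f y = f x → y = x)
    (hy : y ⤳ x') (hfy : f y = f x') : y = x' := by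
  by_contra hne
  obtain ⟨V, W, hV, hW, hxW, hWV, -⟩ := exists_chart_le f (U := ⊤) (x := x) trivial
  let := (f.appLE V W hWV).hom.toAlgebra
  let e := rdimIn f hW hWV x hxW
  obtain ⟨c, hc, hcc⟩ := hasChain_of_specializes f hgen ((hasChain_rdimIn hV hW hWV hxW).mono Set.inter_subset_right)
  have hy0 : y ⤳ c 0 := hy.trans (specializes_iff_mem_closure.2 (hc 0).1)
  have hne0 : y ≠ c 0 := fun h =>
    hne (hy.antisymm (h ▸ specializes_iff_mem_closure.2 (hc 0).1 : x' ⤳ y)).eq
  have hbig : HasChain f (closure {y}) (f y) (e + 1) := by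
    refine ⟨Fin.cons y c, fun i => ?_, fun i => ?_⟩
    · cases i using Fin.cases with
      | zero => simp [subset_closure (Set.mem_singleton y)]
      | succ i =>
        simp only [Fin.cons_succ]
        exact ⟨specializes_iff_mem_closure.1 (hy.trans (specializes_iff_mem_closure.2 (hc i).1)), (hc i).2.trans hfy.symm⟩
    · cases i using Fin.cases with
      | zero => simpa using ⟨hy0, hne0⟩
      | succ i => simpa [← Fin.succ_castSucc] using hcc i
  obtain ⟨U, hxU, hU⟩ := exists_open_fibre f x hx
  have hle : ChainsLE f ((U : Set X) ∩ closure {y}) (f x) e := fun k c' hc' hcc' =>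
    chainsLE_of_specializes f specializes_rfl hxW (chainsLE_rdimIn hV hW hWV hxW) k c'
      (fun i => ⟨specializes_iff_mem_closure.1 (hU _ (hc' i).1.1 (hc' i).2), (hc' i).2⟩) hcc'
  have := hbig.le (chainsLE_of_specializes f (hy.trans hgen) hxU hle)
  omega

end Groth.Agent.ValFibre
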